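import Groth.Agent.SiteBase.HKRep
import Groth.Agent.BigSiteLib.FppfDesc.LocExact
import Mathlib.Algebra.Homology.HomologicalComplex

/-!
# Sections of resolutions by acyclic sheaves
-/

universe u

open CategoryTheory CategoryTheory.Limits Opposite Abelian

namespace Groth.Agent.RlimModLib

variable {C : Type u} [SmallCategory C] {J : GrothendieckTopology C}

lemma subsingleton_HU_of_iso {F G : Sheaf J AddCommGrpCat.{u}} (e : F ≅ G) (U : C) (n : ℕ)
    (h : Subsingleton (CohSite.HU F n U)) : Subsingleton (CohSite.HU G n U) := by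
  refine subsingleton_of_forall_eq 0 fun (x : Ext (CohCx.freeSheaf J U) G n) => ?_
  have h0 : x.comp (Ext.mk₀ e.inv) (add_zero n) = 0 := h.elim _ _
  have h1 := congrArg (fun y => y.comp (Ext.mk₀ e.hom) (add_zero n)) h0
  simp only [Ext.comp_assoc_of_second_deg_zero, Ext.mk₀_comp_mk₀, Iso.inv_hom_id, Ext.comp_mk₀_id,
    Ext.zero_comp] at h1
  exact h1

/-- Sections of a resolution by acyclic sheaves are exact in positive degrees. -/
theorem exact_sections {K : CochainComplex (Sheaf J AddCommGrpCat.{u}) ℕ} (U : C)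
    (hK : ∀ i, (ShortComplex.mk (K.d i (i + 1)) (K.d (i + 1) (i + 2)) (K.d_comp_d _ _ _)).Exact)
    (ha : ∀ i q, Subsingleton (CohSite.HU (K.X i) (q + 1) U))
    (h0 : ∀ q, Subsingleton (CohSite.HU (kernel (K.d 0 1)) (q + 1) U))
    (i : ℕ) (x : (K.X (i + 1)).obj.obj (op U)) (hx : (K.d (i + 1) (i + 2)).hom.app (op U) x = 0) :
    ∃ y, (K.d i (i + 1)).hom.app (op U) y = x := by
  let S : ℕ → ShortComplex (Sheaf J AddCommGrpCat.{u}) := fun j =>
    ShortComplex.mk (kernel.ι (K.d j (j + 1)))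
      (kernel.lift (K.d (j + 1) (j + 2)) (K.d j (j + 1)) (K.d_comp_d _ _ _))
      (by rw [← cancel_mono (kernel.ι _), Category.assoc, kernel.lift_ι, kernel.condition, zero_comp])
  have hS : ∀ j, (S j).ShortExact := fun j => by
    have he : Epi (S j).g := (hK j).epi_kernelLift
    have hm : Mono (S j).f := inferInstanceAs (Mono (kernel.ι (K.d j (j + 1))))
    refine { exact := ?_ }
    refine ShortComplex.exact_of_f_is_kernel _ (KernelFork.IsLimit.ofι' _ _ fun {W} k hk => ⟨kernel.lift _ k ?_, kernel.lift_ι _ _ _⟩)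
    rw [← kernel.lift_ι (K.d (j + 1) (j + 2)) (K.d j (j + 1)) (K.d_comp_d _ _ _), ← Category.assoc, hk,
      zero_comp]
  have hZ : ∀ j q, Subsingleton (CohSite.HU (kernel (K.d j (j + 1))) (q + 1) U) := by
    intro j
    induction j with
    | zero => exact h0
    | succ j ih => exact fun q => SiteBase.subsingleton_HU_X₃ (hS j) U (q + 1) (ih (q + 1)) (ha j q)
  obtain ⟨c, hc⟩ := BigSiteLib.FppfDesc.exists_kernel_section (K.d (i + 1) (i + 2)) x hx
  obtain ⟨y, hy⟩ := SiteBase.surjective_sections_of_HU_one (hS i) U (hZ i 0) c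
  refine ⟨y, ?_⟩
  rw [← hc, ← hy]
  exact congrArg (fun t => t.hom.app (op U) y)
    (kernel.lift_ι (K.d (i + 1) (i + 2)) (K.d i (i + 1)) (K.d_comp_d _ _ _)).symm

end Groth.Agent.RlimModLib
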