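import Mathlib.CategoryTheory.Abelian.FunctorCategory
import Mathlib.CategoryTheory.Functor.OfSequence
import Mathlib.CategoryTheory.Preadditive.Injective.Basic
import Mathlib.CategoryTheory.Preadditive.Biproducts

/-!
# Injective towers: the components are injective and the transition maps split
-/

universe v u

open CategoryTheory CategoryTheory.Limits Opposite

namespace Groth.Agent.RlimModLib

variable {C : Type u} [Category.{v} C] [Abelian C] [EnoughInjectives C] (T : ℕᵒᵖ ⥤ C)

noncomputable def cof : ℕ → C
  | 0 => Injective.under (T.obj (op 0))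
  | n + 1 => cof n ⊞ Injective.under (T.obj (op (n + 1)))

lemma injective_cof : ∀ n, Injective (cof T n)
  | 0 => by unfold cof; infer_instance
  | n + 1 => by
    have := injective_cof n
    unfold cof; infer_instance

noncomputable def cofStep (n : ℕ) : cof T (n + 1) ⟶ cof T n := biprod.fst

noncomputable def cofTower : ℕᵒᵖ ⥤ C := Functor.ofOpSequence (cofStep T)

noncomputable def toCofApp : ∀ n, T.obj (op n) ⟶ cof T n
  | 0 => Injective.ι _
  | n + 1 => biprod.lift (T.map (homOfLE (Nat.le_add_right n 1)).op ≫ toCofApp n) (Injective.ι _)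

noncomputable def toCof : T ⟶ cofTower T :=
  NatTrans.ofOpSequence (toCofApp T) fun n => by
    refine Eq.trans ?_ (congrArg (toCofApp T (n + 1) ≫ ·)
      (Functor.ofOpSequence_map_homOfLE_succ (cofStep T) n)).symm
    show _ = biprod.lift _ _ ≫ biprod.fst
    rw [biprod.lift_fst]
    rfl

instance mono_toCof : Mono (toCof T) := by
  have : ∀ x : ℕᵒᵖ, Mono ((toCof T).app x) := by
    rintro ⟨n⟩
    show Mono (toCofApp T n)
    cases n with
    | zero => exact Injective.ι_mono _
    | succ n => exact mono_of_mono_fac (biprod.lift_snd _ (Injective.ι (T.obj (op (n + 1)))))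
  exact NatTrans.mono_of_mono_app _

variable [Injective T]

/-- Components of injective towers are injective. -/
theorem injective_obj (n : ℕ) : Injective (T.obj (op n)) := by
  let r := Injective.factorThru (𝟙 T) (toCof T)
  have hr : toCof T ≫ r = 𝟙 T := Injective.comp_factorThru _ _
  have : Injective ((cofTower T).obj (op n)) := injective_cof T n
  refine ⟨fun {X Y} g f _ => ⟨Injective.factorThru (g ≫ (toCof T).app (op n)) f ≫ r.app (op n), ?_⟩⟩
  rw [← Category.assoc, Injective.comp_factorThru, Category.assoc, ← NatTrans.comp_app, hr,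
    NatTrans.id_app, Category.comp_id]

/-- Transition maps of injective towers are split epimorphisms. -/
theorem exists_section (n : ℕ) :
    ∃ s, s ≫ T.map (homOfLE (Nat.le_add_right n 1)).op = 𝟙 (T.obj (op n)) := by
  let r := Injective.factorThru (𝟙 T) (toCof T)
  have hr : toCof T ≫ r = 𝟙 T := Injective.comp_factorThru _ _
  let f := (homOfLE (Nat.le_add_right n 1)).op
  let t : (cofTower T).obj (op n) ⟶ (cofTower T).obj (op (n + 1)) :=
    (biprod.inl : cof T n ⟶ cof T n ⊞ Injective.under (T.obj (op (n + 1))))
  have ht : t ≫ (cofTower T).map f = 𝟙 _ := by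
    refine (congrArg (t ≫ ·) (Functor.ofOpSequence_map_homOfLE_succ (cofStep T) n)).trans ?_
    exact biprod.inl_fst
  refine ⟨(toCof T).app (op n) ≫ t ≫ r.app (op (n + 1)), ?_⟩
  rw [Category.assoc, Category.assoc, ← r.naturality f, reassoc_of% ht, ← NatTrans.comp_app, hr,
    NatTrans.id_app]

end Groth.Agent.RlimModLib
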