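import Groth.Agent.RlimModLib.Inj
import Groth.Agent.RlimModLib.Sections
import Groth.Agent.H9Misc.MLSeq
import Groth.Agent.TowerLib.LimVanish
import Groth.Agent.SiteBase.ExtMod
import Groth.Prelude.Def_CohTop

/-!
# Derived limits of towers of sheaves of modules with acyclic sections
-/

universe u

open CategoryTheory CategoryTheory.Limits TopologicalSpace Opposite

namespace Groth.Agent.RlimModLib

variable {X : TopCat.{u}} (R : Sheaf (Opens.grothendieckTopology X) RingCat.{u})

/-- Sections over an open, as abelian groups. -/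
noncomputable abbrev sec (V : Opens X) : SheafOfModules.{u} R ⥤ AddCommGrpCat.{u} :=
  SheafOfModules.forget R ⋙ PresheafOfModules.toPresheaf R.obj ⋙ (evaluation _ _).obj (op V)

variable {R} (E : ℕᵒᵖ ⥤ SheafOfModules.{u} R) (J : InjectiveResolution E) {V : Opens X}

lemma exact_sec (hE : ∀ n q, Subsingleton (CohTop.HU ((SheafOfModules.toSheaf R).obj (E.obj (op n))) (q + 1) V))
    (i n : ℕ) (x : ((J.cocomplex.X (i + 1)) ⋙ sec R V).obj (op n))
    (hx : (sec R V).map ((J.cocomplex.d (i + 1) (i + 2)).app (op n)) x = 0) :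
    ∃ t, (sec R V).map ((J.cocomplex.d i (i + 1)).app (op n)) t = x := by
  let F : (ℕᵒᵖ ⥤ SheafOfModules.{u} R) ⥤ Sheaf (Opens.grothendieckTopology X) AddCommGrpCat.{u} :=
    (evaluation _ _).obj (op n) ⋙ SheafOfModules.toSheaf R
  refine exact_sections (K := (F.mapHomologicalComplex _).obj J.cocomplex) V ?_ ?_ ?_ i x hx
  · intro j
    exact (((HomologicalComplex.exactAt_iff' _ j (j + 1) (j + 2) (by simp) (by simp)).1
      (J.cocomplex_exactAt_succ j)).map ((evaluation _ _).obj (op n))).map (SheafOfModules.toSheaf R)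
  · intro j q
    have : Injective ((J.cocomplex.X j).obj (op n)) := injective_obj (J.cocomplex.X j) n
    exact SiteBase.subsingleton_HU_of_totallyAcyclic
      (SiteBase.isTotallyAcyclic_toSheaf_injective R ((J.cocomplex.X j).obj (op n))) V q
  · intro q
    let S := ShortComplex.mk _ _ J.ι_f_zero_comp_complex_d
    have hS : ((S.map ((evaluation _ _).obj (op n))).map (SheafOfModules.toSheaf R)).Exact :=
      (J.exact₀.map ((evaluation _ _).obj (op n))).map (SheafOfModules.toSheaf R)
    have hm : Mono ((S.map ((evaluation _ _).obj (op n))).map (SheafOfModules.toSheaf R)).f :=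
      inferInstanceAs (Mono (F.map (J.ι.f 0)))
    exact subsingleton_HU_of_iso (hS.fIsKernel.conePointUniqueUpToIso (kernelIsKernel _)) V (q + 1) (hE n q)

lemma exists_lim_section {T : ℕᵒᵖ ⥤ SheafOfModules.{u} R}
    (z : (limit (T ⋙ sec R V) : AddCommGrpCat.{u})) :
    ∃ y : (sec R V).obj (limit T), ∀ m, (sec R V).map (limit.π T m) y = limit.π (T ⋙ sec R V) m z := by
  refine ⟨(preservesLimitIso (sec R V) T).inv z, fun m => ?_⟩
  exact ConcreteCategory.congr_hom (preservesLimitIso_inv_π (sec R V) T m) z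

lemma sec_ext {T : ℕᵒᵖ ⥤ SheafOfModules.{u} R} {a b : (sec R V).obj (limit T)}
    (h : ∀ m, (sec R V).map (limit.π T m) a = (sec R V).map (limit.π T m) b) : a = b :=
  Concrete.isLimit_ext _ (isLimitOfPreserves (sec R V) (limit.isLimit T)) a b h

lemma sec_compat {T : ℕᵒᵖ ⥤ SheafOfModules.{u} R} (a : (sec R V).obj (limit T)) {m m' : ℕᵒᵖ} (g : m ⟶ m') :
    (sec R V).map (T.map g) ((sec R V).map (limit.π T m) a) = (sec R V).map (limit.π T m') a := by
  rw [← ConcreteCategory.comp_apply, ← Functor.map_comp, limit.w]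

lemma sec_lim_map {S T : ℕᵒᵖ ⥤ SheafOfModules.{u} R} (f : S ⟶ T) (a : (sec R V).obj (limit S)) (m : ℕᵒᵖ) :
    (sec R V).map (limit.π T m) ((sec R V).map (limMap f) a) =
      (sec R V).map (f.app m) ((sec R V).map (limit.π S m) a) := by
  rw [← ConcreteCategory.comp_apply, ← Functor.map_comp, limMap_π, Functor.map_comp,
    ConcreteCategory.comp_apply]

lemma exact_lim_succ (hE : ∀ n q, Subsingleton (CohTop.HU ((SheafOfModules.toSheaf R).obj (E.obj (op n))) (q + 1) V))
    (k : ℕ) (z : (sec R V).obj (limit (J.cocomplex.X (k + 2))))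
    (hz : (sec R V).map (limMap (J.cocomplex.d (k + 2) (k + 3))) z = 0) :
    ∃ y, (sec R V).map (limMap (J.cocomplex.d (k + 1) (k + 2))) y = z := by
  obtain ⟨y, hy, hy'⟩ := TowerLib.exists_compatible
    (Functor.whiskerRight (J.cocomplex.d k (k + 1)) (sec R V))
    (Functor.whiskerRight (J.cocomplex.d (k + 1) (k + 2)) (sec R V))
    (by rw [← Functor.whiskerRight_comp, J.cocomplex.d_comp_d]; ext; simp)
    (fun n t => by
      obtain ⟨s, hs⟩ := exists_section (J.cocomplex.X k) n
      refine ⟨(sec R V).map s t, ?_⟩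
      show (sec R V).map _ ((sec R V).map s t) = t
      rw [← ConcreteCategory.comp_apply, ← Functor.map_comp, hs, CategoryTheory.Functor.map_id]
      rfl)
    (fun n => exact_sec E J hE k n)
    (fun n => (sec R V).map (limit.π _ (op n)) z)
    (fun n => sec_compat z _)
    (fun n => exact_sec E J hE (k + 1) n _ (by rw [← sec_lim_map, hz, map_zero]))
  obtain ⟨w, hw⟩ := TowerLib.exists_lim_element _ y hy
  obtain ⟨w', hw'⟩ := exists_lim_section w
  refine ⟨w', sec_ext fun ⟨n⟩ => ?_⟩
  rw [sec_lim_map, hw', hw]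
  exact hy' n

lemma exact_lim_one (hE : ∀ n q, Subsingleton (CohTop.HU ((SheafOfModules.toSheaf R).obj (E.obj (op n))) (q + 1) V))
    (hML : ((E ⋙ sec R V) ⋙ forget AddCommGrpCat.{u}).IsMittagLeffler)
    (z : (sec R V).obj (limit (J.cocomplex.X 1)))
    (hz : (sec R V).map (limMap (J.cocomplex.d 1 2)) z = 0) :
    ∃ y, (sec R V).map (limMap (J.cocomplex.d 0 1)) y = z := by
  let S := ShortComplex.mk _ _ J.ι_f_zero_comp_complex_d
  obtain ⟨c, hc⟩ : ∃ c : (limit (J.cocomplex.X 1 ⋙ sec R V) : AddCommGrpCat.{u}),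
      ∀ n, limit.π (J.cocomplex.X 1 ⋙ sec R V) (op n) c = (sec R V).map (limit.π _ (op n)) z :=
    TowerLib.exists_lim_element _ _ (fun n => sec_compat z _)
  obtain ⟨y, hy⟩ := H9Misc.MLSeq.exists_lift (A := E ⋙ sec R V) (B := J.cocomplex.X 0 ⋙ sec R V)
    (Functor.whiskerRight S.f (sec R V)) (Functor.whiskerRight S.g (sec R V))
    (fun i => by
      have hm : Mono (S.map ((evaluation _ _).obj i)).f :=
        inferInstanceAs (Mono (((evaluation _ _).obj i).map (J.ι.f 0)))
      exact (ShortComplex.ab_exact_iff_range_eq_ker.1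
        ((J.exact₀.map ((evaluation _ _).obj i)).map_of_mono_of_preservesKernel (sec R V) hm inferInstance)).symm)
    hML c (fun i => by
      rw [hc i.unop]
      exact exact_sec E J hE 0 i.unop _ (by rw [← sec_lim_map, hz, map_zero]))
  obtain ⟨y', hy'⟩ := exists_lim_section y
  refine ⟨y', sec_ext fun ⟨n⟩ => ?_⟩
  rw [sec_lim_map, hy', ← hc n, ← hy]
  exact (ConcreteCategory.congr_hom (limMap_π (Functor.whiskerRight S.g (sec R V)) (op n)) y).symm

variable [(lim : (ℕᵒᵖ ⥤ SheafOfModules.{u} R) ⥤ SheafOfModules.{u} R).Additive]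
  [HasInjectiveResolutions (ℕᵒᵖ ⥤ SheafOfModules.{u} R)]

theorem isZero_rightDerived (B : Set (Opens X)) (hB : Opens.IsBasis B) (i : ℕ)
    (h : ∀ V ∈ B, ∀ z : (sec R V).obj (limit ((injectiveResolution E).cocomplex.X (i + 1))),
      (sec R V).map (limMap ((injectiveResolution E).cocomplex.d (i + 1) (i + 2))) z = 0 →
      ∃ y, (sec R V).map (limMap ((injectiveResolution E).cocomplex.d i (i + 1))) y = z) :
    IsZero (((lim : (ℕᵒᵖ ⥤ SheafOfModules.{u} R) ⥤ SheafOfModules.{u} R).rightDerived (i + 1)).obj E) := by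
  let J := injectiveResolution E
  refine IsZero.of_iso ?_ (J.isoRightDerivedObj lim (i + 1))
  refine (HomologicalComplex.exactAt_iff_isZero_homology _ _).1 ?_
  rw [HomologicalComplex.exactAt_iff' _ i (i + 1) (i + 2) (by simp) (by simp),
    ← ShortComplex.exact_map_iff_of_faithful _ (SheafOfModules.toSheaf R)]
  refine BigSiteLib.FppfDesc.exact_of_locally_boundary fun U x hx p hp => ?_
  obtain ⟨V, hV, hpV, hVU⟩ := Opens.isBasis_iff_nbhd.1 hB hp
  obtain ⟨y, hy⟩ := h V hV ((((SheafOfModules.toSheaf R).obj (limit (J.cocomplex.X (i + 1)))).obj.map (homOfLE hVU).op x)) (by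
    refine (NatTrans.naturality_apply ((SheafOfModules.toSheaf R).map (limMap (J.cocomplex.d (i + 1) (i + 2)))).hom
      (homOfLE hVU).op x).trans ?_
    exact (congrArg _ hx).trans (map_zero _))
  exact ⟨V, homOfLE hVU, ⟨y, hy⟩, hpV⟩

end Groth.Agent.RlimModLib
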